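import Groth.Agent.Lib.Helper24.Depth.AssDim
import Groth.Prelude.Def_CAlg
import Mathlib.RingTheory.KrullDimension.Module

/-! Cohen–Macaulay local rings are equidimensional. -/

set_option autoImplicit false

namespace Groth.Agent.Lib.Helper24.CMEquidim

open RingTheory.Sequence IsLocalRing

universe u

theorem dim_le_dim_quot_of_mem_associatedPrimes (R : Type u) [CommRing R]
    [LocCoh.IsCohenMacaulayLocalRing R] (p : Ideal R) (hp : p ∈ associatedPrimes R R) :
    ringKrullDim R ≤ ringKrullDim (R ⧸ p) := by
  haveI : p.IsPrime := hp.isPrime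
  have hCM := LocCoh.IsCohenMacaulayLocalRing.supportDim_eq_depth (R := R)
  rw [Module.supportDim_self_eq_ringKrullDim] at hCM
  rw [hCM]
  have hne : ringKrullDim (R ⧸ p) ≠ ⊥ := by
    intro h
    have := ringKrullDim_nonneg_of_nontrivial (R := R ⧸ p)
    rw [h] at this
    exact absurd this (by simp)
  obtain ⟨k, hk⟩ := WithBot.ne_bot_iff_exists.1 hne
  rw [← hk, WithBot.coe_le_coe]
  unfold LocCoh.depth LocCoh.idealDepth
  have htop : ¬ (maximalIdeal R • (⊤ : Submodule R R) = ⊤) := by
    rw [smul_eq_mul, Ideal.mul_top]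
    exact Ideal.IsPrime.ne_top inferInstance
  rw [if_neg htop]
  apply iSup₂_le
  intro rs hrs
  have := AssDim.length_le_dim_quot rs R hrs.1 hrs.2 p hp
  rw [← hk] at this
  exact_mod_cast this

theorem dim_quot_minimalPrime_eq (R : Type u) [CommRing R]
    [LocCoh.IsCohenMacaulayLocalRing R] (p : Ideal R) (hp : p ∈ minimalPrimes R) :
    ringKrullDim (R ⧸ p) = ringKrullDim R := by
  apply le_antisymm (ringKrullDim_quotient_le p)
  apply dim_le_dim_quot_of_mem_associatedPrimes
  apply Module.associatedPrimes.minimalPrimes_annihilator_subset_associatedPrimes R R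
  rw [Module.annihilator_eq_bot.2 inferInstance]
  exact hp

end Groth.Agent.Lib.Helper24.CMEquidim
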